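import Cfsg.Agent.Lib.MathieuFusion.Basic
import Cfsg.Agent.Lib.Golay.Mathieu

/-
Certificates for the 2-fusion systems of the Mathieu groups, checked by the kernel.
Main results (namespace `Cfsg.Agent.MathieuFusion`): `isSimple_m11`, `isSimple_m12`, `isSimple_m22`,
`isSimple_m23`, `isSimple_m24`.
-/

set_option autoImplicit false

open Cfsg Cfsg.Agent.Golay
open scoped Pointwise

namespace Cfsg.Agent.MathieuFusion

/-- The certificate for M11. -/
def m11Cert : Cert where
  gens := [(713508038817093280236299335846412672,
    713508038817093280236299335846412672), (445469500402478623363288594862574624,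
    936741154273517938852481970894610464), (226786775902980971280300700971709472,
    858454551440352403652264665921308704), (719708130282520820308329691860975648,
    719708130282520820308329691860975648)]
  z := 719708130282520820308329691860975648
  chain := [.fix 0, .fix 1, .fix 2, .fix 5, .fix 7, .fix 9, .descend 7, .fix 2, .fix 3, .fix 5, .fix 10, .fix 11, .fix 13, .fix 14, .fix 15, .descend 1, .fix 2, .fix 4, .fix 11, .fix 12, .fix 14, .fix 17, .fix 19, .descend 2, .fix 3, .fix 4, .fix 5, .fix 6, .fix 8, .fix 10, .fix 13, .fix 14, .fix 16, .fix 17, .fix 18, .fix 20, .fix 21, .fix 22, .fix 23]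
  rig := []
  fus := [(733883896472235110517462859570885920,
    435773216235924987511765126673123584, [0]), (844375149300238741806768418789036320,
    645375147729847929723140927562100832, [0]), (849643112107286825990897416268224544,
    588462863688111005086156221717885984, [2, 1])]
  words := [[2, 0], [3, 2, 1], [3], [0]]

/-- The certificate for M12. -/
def m12Cert : Cert where
  gens := [(309650726319681307781356038613243952,
    720722087275019000515708653631848492), (980911370139654030782469375272297890,
    969240197711682325428100037726044584), (962739364800516061384660403327381618,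
    970520232667888777338509445838182512), (309650488557874025792959714402910630,
    309650488557874025792959714402910630), (310947525386081553090591163942062508,
    310947525386081553090591163942062508), (879743744315187741705538325414582416,
    879743744315187741705538325414582416)]
  z := 982224272407457424162902122185203753
  chain := [.fix 0, .fix 1, .fix 5, .fix 7, .descend 1, .fix 3, .fix 13, .descend 7, .fix 0, .fix 5, .fix 6, .fix 10, .fix 16, .fix 17, .fix 20, .fix 21, .descend 3, .fix 0, .fix 2, .fix 4, .fix 5, .fix 14, .fix 21, .fix 23, .descend 0, .fix 2, .fix 5, .fix 6, .fix 8, .fix 9, .fix 10, .fix 11, .fix 12, .fix 14, .fix 15, .fix 16, .fix 18, .fix 19, .fix 20, .fix 22]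
  rig := []
  fus := [(807868222605029206786580905793758733,
    588813210370574413396270066585351752, [0]), (939215932975791898942689279570216018,
    819391205565807775584980540132164681, [1, 0]), (230624114063695583790688037813957128,
    726493534613281932195252806894555341, [2, 0]), (975686787964588934982238592157955080,
    962589497438998957768705004126214401, [1, 0]), (962338996548246322435096456099963984,
    968588513495023138362901989177984422, [4, 3, 2])]
  words := [[5, 4], [4, 3], [1, 5], [3, 5, 3], [3, 5, 3, 0], [5, 2, 0]]

/-- The certificate for M22. -/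
def m22Cert : Cert where
  gens := [(974950534814240718162829782225195200,
    959824928302226171142822059441706272), (975118181606309390048497344427099200,
    975118181606309390048497344427099200), (961281775988579514787007154048147840,
    961281775988579514787007154048147840), (968610050444490709229668472825614848,
    975362824570178406137531988340920608), (969278099197224898889001846182511904,
    983150000352890501764122718846357568), (971369739280191842738920637205193856,
    971369739280191842738920637205193856), (963781582498783727738404364117754496,
    963781582498783727738404364117754496)]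
  z := 971369739280191842738920637205193856
  chain := [.fix 0, .fix 1, .fix 5, .fix 11, .fix 23, .descend 5, .fix 7, .fix 14, .descend 11, .fix 14, .fix 18, .fix 19, .descend 1]
  rig := [(2, [10305542, 8536111]), (3, [843820, 8536111]), (4, [6832158, 8683614]), (6, [663645, 8683614]), (8, [3031301, 9748745]), (9, [9323032, 57883]), (10, [13370381, 10765331]), (12, [8966165, 421910]), (13, [9347075, 11100169]), (15, [9347075, 3719203]), (16, [1302533, 10305542, 11100169]), (17, [9347075]), (20, [1302533]), (21, [11100169]), (22, [])]
  fus := [(957211263014726034331529602175111520,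
    974059083658572396264022078468412096, [0]), (961494305177615516236970483249597472,
    983458649404824773598758877599906848, [1, 0]), (960963666985729211722695861344939168,
    974341985946499089084858813953249504, [1, 0]), (976607220429186568759063216277492128,
    961036743761079550760115440527655328, [2, 1, 2, 0])]
  words := [[1, 2, 0], [1, 2, 1, 0], [3, 2, 3], [4, 1, 2, 1, 0], [3, 1, 2, 1, 4], [0], [3, 2, 3, 2, 0]]

/-- The certificate for M24. -/
def m24Cert : Cert where
  gens := [(605162781055278783020256562639805548,
    679428384568824519069614712033415555), (884806429145831045973188506530490369,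
    228123250738266441375515479456753665), (765034333053401016735649847954211138,
    725119188369586105832352461623492930), (892717051564545876567542122784630785,
    892717051564545876567542122784630785), (402017147520271512389527884687049802,
    402017147520271512389527884687049802), (633675222422032415210049992250196290,
    633675222422032415210049992250196290), (983560415328672808625120495039260673,
    983560415328672808625120495039260673), (403284753603006052947601572093100106,
    860196703526683776376403839848678722), (984804261842214368737105645013149728,
    984804261842214368737105645013149728), (652497062537390746447746217172641793,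
    652497062537390746447746217172641793)]
  z := 651239579074641248992907580101724192
  chain := [.fix 0, .fix 5, .descend 0, .fix 1, .fix 2, .fix 3, .descend 3, .fix 4, .fix 12, .descend 2, .fix 4, .fix 7, .fix 10, .descend 5]
  rig := [(6, [2162811, 4325622]), (8, [1065303, 8421811]), (9, [786999, 2130606]), (11, [1116327, 272595]), (13, [663645, 4726955, 2121909]), (14, [8536111, 8937586, 2121909]), (15, [843820, 5275709]), (16, [1302533, 12656663]), (17, [1302533, 2605066]), (18, [9347075, 2605066]), (19, [9347075, 6053905]), (20, [1302533]), (21, [11100169, 2605066]), (22, [6053905]), (23, [])]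
  fus := [(646787883119208044317357017489572231,
    552460619767521920416576347668848002, [0]), (664714949477810942023113147217040837,
    585537175317411859771971028524422710, [0]), (230061594890645335419043844920672374,
    125035489047761473533532141439197410, [2, 1, 2, 0]), (249656741473714640250513076917880210,
    520832313226507319730174542104276438, [2]), (590067353690921650177103504824020719,
    45931404681691746973429459927289357, [0])]
  words := [[1, 2, 5, 4, 3], [3, 1, 4, 2, 3, 2, 1], [3, 4, 1, 3, 4, 2], [4, 3, 2, 1, 4, 3, 2, 1], [4, 3, 4, 2, 3], [5, 4, 5], [3, 2, 3, 2, 0], [3, 2], [3], [3, 2, 3, 2]]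

theorem mem_stabilizer_dodecad {d : ℕ} (hd : isAut d = true) (h : stable d dodecad0 = true) :
    toPerm d ∈ Spor.M12 :=
  ⟨toPerm_mem_M24 hd, MulAction.mem_stabilizer_iff.2 (pts_dodecad0 ▸
    stable_sound (rep_toPerm (validPerm_of_isAut hd)) h)⟩

theorem toPerm_fix {d i : ℕ} (hi : i < 24) (hd : isAut d = true) (h : (fn d i == i) = true) :
    toPerm d (pt i) = pt i := by
  rw [toPerm_pt (validPerm_of_isAut hd) hi, beq_iff_eq.1 h]

theorem isSimple_m11 (S : Sylow 2 Spor.M11) :
    (groupFusionSystem (S : Subgroup Spor.M11)).IsSimple 2 := by
  refine isSimple_of_cert (G := Spor.M11) (fun g hg => hg.1.1)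
    (fun d => isAut d && stable d dodecad0 && fn d 0 == 0) (fun d hd => ?_) m11Cert
    (by decide +kernel) (m := 495) (by decide) ?_ (by decide) S
  · simp only [Bool.and_eq_true] at hd
    exact ⟨mem_stabilizer_dodecad hd.1.1 hd.1.2,
      toPerm_fix (i := 0) (by norm_num) hd.1.1 hd.2⟩
  · have h : Spor.squareDodecad ∈ dodecads := pts_dodecad0 ▸ dodecad0_mem
    show Nat.card ↥(M24 ⊓ MulAction.stabilizer (Equiv.Perm GolayPt) Spor.squareDodecad ⊓
      MulAction.stabilizer (Equiv.Perm GolayPt) (some 0 : GolayPt)) = _
    rw [natCard_m11 h (by decide +kernel)]
    rfl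

theorem isSimple_m12 (S : Sylow 2 Spor.M12) :
    (groupFusionSystem (S : Subgroup Spor.M12)).IsSimple 2 := by
  refine isSimple_of_cert (G := Spor.M12) (fun g hg => hg.1) (fun d => isAut d && stable d dodecad0)
    (fun d hd => ?_) m12Cert (by decide +kernel) (m := 1485) (by decide) ?_ (by decide) S
  · simp only [Bool.and_eq_true] at hd
    exact mem_stabilizer_dodecad hd.1 hd.2
  · have h : Spor.squareDodecad ∈ dodecads := pts_dodecad0 ▸ dodecad0_mem
    show Nat.card ↥(M24 ⊓ MulAction.stabilizer (Equiv.Perm GolayPt) Spor.squareDodecad) = _
    rw [natCard_inf_stabilizer_dodecad h]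
    rfl

theorem facts_m22 (S : Sylow 2 Spor.M22) :
    (S : Subgroup Spor.M22) ≠ ⊥ ∧
      (∀ T : Subgroup Spor.M22, (groupFusionSystem (S : Subgroup Spor.M22)).StronglyClosed T →
        T = ⊥ ∨ T = (S : Subgroup Spor.M22)) ∧
      ∀ g : Spor.M22, g ∈ Subgroup.normalizer ((S : Subgroup Spor.M22) : Set Spor.M22) →
        g ∈ (S : Subgroup Spor.M22) := by
  refine facts_of_cert (G := Spor.M22) (fun g hg => hg.1.1) (fun d => isAut d && fn d 23 == 23 && fn d 0 == 0)
    (fun d hd => ?_) m22Cert (by decide +kernel) (m := 3465) (by decide) ?_ (by decide) S
  · simp only [Bool.and_eq_true] at hd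
    exact ⟨⟨toPerm_mem_M24 hd.1.1, toPerm_fix (i := 23) (by norm_num) hd.1.1 hd.1.2⟩,
      toPerm_fix (i := 0) (by norm_num) hd.1.1 hd.2⟩
  · show Nat.card ↥(M24 ⊓ MulAction.stabilizer (Equiv.Perm GolayPt) (none : GolayPt) ⊓
      MulAction.stabilizer (Equiv.Perm GolayPt) (some 0 : GolayPt)) = _
    rw [natCard_m22 (by simp)]
    rfl

theorem isSimple_m22 (S : Sylow 2 Spor.M22) :
    (groupFusionSystem (S : Subgroup Spor.M22)).IsSimple 2 :=
  isSimple_of_selfNormalizing S (facts_m22 S).1 (facts_m22 S).2.1 (facts_m22 S).2.2

theorem isSimple_m23 (S : Sylow 2 Spor.M23) :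
    (groupFusionSystem (S : Subgroup Spor.M23)).IsSimple 2 := by
  refine isSimple_of_cert (G := Spor.M23) (fun g hg => hg.1) (fun d => isAut d && fn d 23 == 23)
    (fun d hd => ?_) m22Cert (by decide +kernel) (m := 79695) (by decide) ?_ (by decide) S
  · simp only [Bool.and_eq_true] at hd
    exact ⟨toPerm_mem_M24 hd.1, toPerm_fix (i := 23) (by norm_num) hd.1 hd.2⟩
  · show Nat.card ↥(M24 ⊓ MulAction.stabilizer (Equiv.Perm GolayPt) (none : GolayPt)) = _
    rw [natCard_m23]
    rfl

theorem isSimple_m24 (S : Sylow 2 M24) :
    (groupFusionSystem (S : Subgroup M24)).IsSimple 2 := by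
  refine isSimple_of_cert le_rfl isAut (fun d hd => toPerm_mem_M24 hd) m24Cert
    (by decide +kernel) (m := 239085) (by decide) ?_ (by decide) S
  rw [natCard_M24]
  rfl

end Cfsg.Agent.MathieuFusion
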