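import Cfsg.Agent.Lib.MathieuFusion.Code
import Cfsg.Agent.Lib.Fusion.Group
import Cfsg.Agent.Lib.FusionNormal.Basic
import Cfsg.Agent.Lib.PGroup.Basic

/-
Simplicity of the 2-fusion system of a subgroup of `Cfsg.M24` from certificates checked by the
kernel: polycyclic generators of a Sylow 2-subgroup `K`, a chain of orbits showing that `K` is
self-normalizing, and fusion steps showing that the central involution generates `K` under fusion.
Main result (namespace `Cfsg.Agent.MathieuFusion`): `isSimple_of_cert`.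
-/

set_option autoImplicit false

open Cfsg Cfsg.Agent.Golay
open scoped Pointwise

namespace Cfsg.Agent.MathieuFusion

/-- The elements fixing the base points. -/
def fixB (L B : List ℕ) : List ℕ := L.filter fun d => B.all fun b => fn d b == b

/-- The orbit of a bit under the listed elements, as a mask. -/
def orbm (H : List ℕ) (q : ℕ) : ℕ := H.foldr (fun d acc => (1 <<< fn d q) ||| acc) 0

/-- Membership in the same invariant masks. -/
def sameProfile (F : List ℕ) (q r : ℕ) : Bool := F.all fun f => f.testBit q == f.testBit r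

/-- The union of the orbits that can be images of the orbit of `q`. -/
def candMask (H F : List ℕ) (q : ℕ) : ℕ :=
  (List.range 24).foldr (fun r acc =>
    bif sameProfile F q r && popcount (orbm H r) == popcount (orbm H q)
    then orbm H r ||| acc else acc) 0

/-- At most two orbits can be images of the orbit of `q`. -/
def certOrbit (H F : List ℕ) (q : ℕ) : Bool :=
  Nat.blt q 24 && Nat.ble (popcount (candMask H F q)) (2 * popcount (orbm H q))

/-- `f` is carried into itself by `d`. -/
def stable (d f : ℕ) : Bool := (List.range 24).all fun i => !f.testBit i || f.testBit (fn d i)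

/-- The union of the singletons among the masks. -/
def singles (F : List ℕ) : ℕ :=
  F.foldr (fun f acc => bif popcount f == 1 then f ||| acc else acc) 0

/-- A step of the orbit chain. -/
inductive Instr
  | fix (q : ℕ)
  | descend (a : ℕ)

/-- The check of an orbit chain. -/
def checkChain (L : List ℕ) (rig : List (ℕ × List ℕ)) : List Instr → List ℕ → List ℕ → Bool
  | [], _, F => checkSteps rig (singles F)
  | .fix q :: rest, B, F =>
    certOrbit (fixB L B) F q && checkChain L rig rest B (orbm (fixB L B) q :: F)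
  | .descend a :: rest, B, F =>
    certOrbit (fixB L B) F a && ((fixB L B).all fun d => F.all fun f => stable d f) &&
      checkChain L rig rest (a :: B) ((1 <<< a) :: F)

/-- A product of listed elements. -/
def word (E ws : List ℕ) : ℕ := ws.foldr (fun i acc => comp (E.getD i idCode) acc) idCode

/-- The check of the fusion steps: each conjugates a known element of the strongly closed subgroup
into the 2-group; at the end the generators are products of known elements. -/
def checkFus (inG : ℕ → Bool) (L gens : List ℕ) (words : List (List ℕ)) :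
    List (ℕ × ℕ × List ℕ) → List ℕ → Bool
  | [], E => words.length == gens.length &&
      (gens.zip words).all fun x => word E x.2 == canon x.1
  | (g, gi, ws) :: rest, E =>
    inG g && validPerm g && validPerm gi && (comp g gi == idCode) &&
      L.contains (comp g (comp (word E ws) gi)) &&
      checkFus inG L gens words rest (E ++ [comp g (comp (word E ws) gi)])

/-- The check that the centre has order two. -/
def checkCenter (L gens : List ℕ) (z : ℕ) : Bool :=
  L.all fun d => d == idCode || d == z || !(gens.all fun e => comp d e == comp e d)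

/-- A certificate. -/
structure Cert where
  gens : List (ℕ × ℕ)
  z : ℕ
  chain : List Instr
  rig : List (ℕ × List ℕ)
  fus : List (ℕ × ℕ × List ℕ)
  words : List (List ℕ)

/-- The listed elements of the 2-group of a certificate. -/
def Cert.list (c : Cert) : List ℕ := elts (c.gens.map Prod.fst)

/-- The check of a certificate. -/
def Cert.check (inG : ℕ → Bool) (c : Cert) : Bool :=
  checkPoly c.gens && (c.gens.all fun x => inG x.1) && checkChain c.list c.rig c.chain [] [] &&
    checkCenter c.list (c.gens.map Prod.fst) c.z &&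
    checkFus inG c.list (c.gens.map Prod.fst) c.words c.fus [c.z]

theorem stable_sound {d f : ℕ} {g : Equiv.Perm GolayPt} (hd : Rep d g) (h : stable d f = true) :
    g • pts f = pts f := by
  refine Finset.eq_of_subset_of_card_le (fun q hq => ?_) (Finset.card_smul_finset g _).ge
  obtain ⟨p, hp, rfl⟩ := Finset.mem_smul_finset.1 hq
  have h1 := List.all_eq_true.1 h (idx p) (List.mem_range.2 (idx_lt p))
  rw [mem_pts] at hp ⊢
  rw [Equiv.Perm.smul_def, hd p]
  simpa [hp] using h1

theorem testBit_fix {g : Equiv.Perm GolayPt} {f : ℕ} (h : g • pts f = pts f) (p : GolayPt) :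
    f.testBit (idx (g p)) = f.testBit (idx p) := by
  have h1 : g p ∈ pts f ↔ p ∈ pts f := by
    conv_lhs => rw [← h, ← Equiv.Perm.smul_def, Finset.smul_mem_smul_finset_iff]
  rw [mem_pts, mem_pts] at h1
  exact Bool.eq_iff_iff.2 h1

theorem testBit_orbm (H : List ℕ) (q r : ℕ) :
    (orbm H q).testBit r = true ↔ ∃ d ∈ H, fn d q = r := by
  induction H with
  | nil => simp [orbm]
  | cons d H ih =>
    show ((1 <<< fn d q) ||| orbm H q).testBit r = true ↔ _
    rw [Nat.testBit_or, Bool.or_eq_true, ih, Nat.one_shiftLeft, Nat.testBit_two_pow,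
      decide_eq_true_eq]
    simp

theorem testBit_candMask {H F : List ℕ} {q r : ℕ} (hr : r < 24) (i : ℕ)
    (h1 : sameProfile F q r = true) (h2 : popcount (orbm H r) = popcount (orbm H q))
    (hi : (orbm H r).testBit i = true) : (candMask H F q).testBit i = true := by
  suffices ∀ l : List ℕ, r ∈ l → (l.foldr (fun r acc =>
      bif sameProfile F q r && popcount (orbm H r) == popcount (orbm H q)
      then orbm H r ||| acc else acc) 0).testBit i = true from this _ (List.mem_range.2 hr)
  intro l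
  induction l with
  | nil => simp
  | cons x l ih =>
    intro hx
    simp only [List.foldr_cons]
    rcases List.mem_cons.1 hx with rfl | hx
    · simp [h1, h2, hi]
    · cases sameProfile F q x && popcount (orbm H x) == popcount (orbm H q) <;> simp [ih hx]

section

variable {G K : Subgroup (Equiv.Perm GolayPt)} {L : List ℕ}

/-- The permutations fixing the base points and the masks. -/
def fixer (B F : List ℕ) : Subgroup (Equiv.Perm GolayPt) :=
  (⨅ b ∈ B, MulAction.stabilizer (Equiv.Perm GolayPt) (pt b)) ⊓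
    ⨅ f ∈ F, MulAction.stabilizer (Equiv.Perm GolayPt) (pts f)

theorem mem_fixer {B F : List ℕ} {g : Equiv.Perm GolayPt} :
    g ∈ fixer B F ↔ (∀ b ∈ B, g (pt b) = pt b) ∧ ∀ f ∈ F, g • pts f = pts f := by
  simp [fixer, Subgroup.mem_iInf, MulAction.mem_stabilizer_iff]

theorem mem_of_mem_fixB {B : List ℕ} (hB : ∀ b ∈ B, b < 24) {d : ℕ} (hd : d ∈ fixB L B)
    {g : Equiv.Perm GolayPt} (hg : Rep d g) : ∀ b ∈ B, g (pt b) = pt b := by
  intro b hb
  have h := List.all_eq_true.1 (List.mem_filter.1 hd).2 b hb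
  exact idx_injective (by rw [hg, idx_pt (hB b hb), beq_iff_eq.1 h])

theorem mem_orb (hmem : ∀ g, g ∈ K ↔ ∃ d ∈ L, Rep d g) (hrep : ∀ d ∈ L, ∃ g, Rep d g) {B : List ℕ}
    (hB : ∀ b ∈ B, b < 24) (p r : GolayPt) :
    r ∈ pts (orbm (fixB L B) (idx p)) ↔ ∃ x ∈ K, (∀ b ∈ B, x (pt b) = pt b) ∧ x p = r := by
  rw [mem_pts, testBit_orbm]
  constructor
  · rintro ⟨d, hd, he⟩
    obtain ⟨g, hg⟩ := hrep d (List.mem_filter.1 hd).1
    exact ⟨g, (hmem g).2 ⟨d, (List.mem_filter.1 hd).1, hg⟩, mem_of_mem_fixB hB hd hg,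
      idx_injective (by rw [hg, he])⟩
  · rintro ⟨x, hx, hfix, rfl⟩
    obtain ⟨d, hd, hg⟩ := (hmem x).1 hx
    refine ⟨d, List.mem_filter.2 ⟨hd, List.all_eq_true.2 fun b hb => ?_⟩, (hg p).symm⟩
    rw [beq_iff_eq]
    have h := hg (pt b)
    rw [hfix b hb, idx_pt (hB b hb)] at h
    exact h.symm

/-- A permutation of odd order normalizing `K`, fixing the base and the masks, fixes a certified
orbit. -/
theorem orb_fixed (hmem : ∀ g, g ∈ K ↔ ∃ d ∈ L, Rep d g) (hrep : ∀ d ∈ L, ∃ g, Rep d g)
    {B F : List ℕ} (hB : ∀ b ∈ B, b < 24) {q : ℕ} (hcert : certOrbit (fixB L B) F q = true)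
    {g : Equiv.Perm GolayPt} (hgN : g ∈ Subgroup.normalizer (K : Set (Equiv.Perm GolayPt)))
    (hgF : g ∈ fixer B F) {m : ℕ} (hm : Odd m) (hgm : g ^ m = 1) :
    g • pts (orbm (fixB L B) q) = pts (orbm (fixB L B) q) := by
  simp only [certOrbit, Bool.and_eq_true, Nat.blt_eq, Nat.ble_eq] at hcert
  obtain ⟨hq, hcard⟩ := hcert
  obtain ⟨hgB, hgf⟩ := mem_fixer.1 hgF
  set O : GolayPt → Finset GolayPt := fun p => pts (orbm (fixB L B) (idx p)) with hO
  set a := pt q
  have hqa : idx a = q := idx_pt hq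
  have hmO : ∀ p r, r ∈ O p ↔ ∃ x ∈ K, (∀ b ∈ B, x (pt b) = pt b) ∧ x p = r :=
    mem_orb hmem hrep hB
  have hrefl : ∀ p, p ∈ O p := fun p => (hmO p p).2 ⟨1, one_mem _, fun b _ => rfl, rfl⟩
  have htrans : ∀ p r, r ∈ O p → O r = O p := by
    intro p r hr
    obtain ⟨x, hx, hxB, rfl⟩ := (hmO p r).1 hr
    ext s
    rw [hmO, hmO]
    constructor
    · rintro ⟨y, hy, hyB, rfl⟩
      exact ⟨y * x, mul_mem hy hx, fun b hb => by rw [Equiv.Perm.mul_apply, hxB b hb, hyB b hb], rfl⟩
    · rintro ⟨y, hy, hyB, rfl⟩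
      refine ⟨y * x⁻¹, mul_mem hy (inv_mem hx), fun b hb => ?_, by simp⟩
      rw [Equiv.Perm.mul_apply, Equiv.Perm.inv_eq_iff_eq.2 (hxB b hb).symm, hyB b hb]
  have hsmul : ∀ p, g • O p = O (g p) := by
    intro p
    ext s
    rw [Finset.mem_smul_finset, hmO]
    constructor
    · rintro ⟨r, hr, rfl⟩
      obtain ⟨x, hx, hxB, rfl⟩ := (hmO p r).1 hr
      refine ⟨g * x * g⁻¹, (Subgroup.mem_normalizer_iff.1 hgN x).1 hx, fun b hb => ?_, by simp⟩
      rw [Equiv.Perm.mul_apply, Equiv.Perm.mul_apply,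
        Equiv.Perm.inv_eq_iff_eq.2 (hgB b hb).symm, hxB b hb, hgB b hb]
    · rintro ⟨x, hx, hxB, rfl⟩
      refine ⟨g⁻¹ (x (g p)), (hmO p _).2 ⟨g⁻¹ * x * g, ?_, fun b hb => ?_, rfl⟩, by simp⟩
      · exact (Subgroup.mem_normalizer_iff''.1 hgN x).1 hx
      · rw [Equiv.Perm.mul_apply, Equiv.Perm.mul_apply, hgB b hb, hxB b hb,
          Equiv.Perm.inv_eq_iff_eq.2 (hgB b hb).symm]
  have hcardg : ∀ p, (O (g p)).card = (O p).card := fun p => by
    rw [← hsmul, Finset.card_smul_finset]
  set U := pts (candMask (fixB L B) F q)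
  have hcand : ∀ p, (∀ f ∈ F, f.testBit (idx p) = f.testBit q) → (O p).card = (O a).card →
      O p ⊆ U := by
    intro p hprof hc s hs
    refine mem_pts.2 (testBit_candMask (idx_lt p) _
      (List.all_eq_true.2 fun f hf => by rw [hprof f hf]; simp) ?_ (mem_pts.1 hs))
    rw [← card_pts, ← card_pts]
    simpa [hO, hqa] using hc
  have h0 : O a ⊆ U := hcand a (fun f _ => by rw [hqa]) rfl
  have h1 : O (g a) ⊆ U :=
    hcand (g a) (fun f hf => by rw [testBit_fix (hgf f hf), hqa]) (hcardg a)
  have h2 : O (g (g a)) ⊆ U :=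
    hcand (g (g a)) (fun f hf => by rw [testBit_fix (hgf f hf), testBit_fix (hgf f hf), hqa])
      (by rw [hcardg, hcardg])
  have hUc : U.card ≤ 2 * (O a).card := by
    rw [card_pts, hO]
    simpa [card_pts, hqa] using hcard
  have hsq : O (g (g a)) = O a := by
    by_cases he : O (g a) = O a
    · rw [← hsmul, he, hsmul, he]
    have hdis : Disjoint (O a) (O (g a)) := by
      rw [Finset.disjoint_left]
      intro s hs hs'
      exact he ((htrans _ _ hs').symm.trans (htrans _ _ hs))
    have hU : O a ∪ O (g a) = U := Finset.eq_of_subset_of_card_le (Finset.union_subset h0 h1)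
      (by rw [Finset.card_union_of_disjoint hdis, hcardg]; omega)
    have := h2 (hrefl _)
    rw [← hU, Finset.mem_union] at this
    rcases this with h | h
    · exact htrans _ _ h
    · refine absurd ?_ he
      have := htrans _ _ h
      rw [← hsmul (g a), ← hsmul a] at this
      rw [← hsmul a]
      exact smul_left_cancel g this
  have hst : g ^ 2 ∈ MulAction.stabilizer (Equiv.Perm GolayPt) (O a) := by
    rw [MulAction.mem_stabilizer_iff, pow_two, mul_smul, hsmul, hsmul, hsq]
  obtain ⟨k, rfl⟩ := hm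
  have hg : (g ^ 2) ^ (k + 1) = g := by
    rw [← pow_mul, show 2 * (k + 1) = 2 * k + 1 + 1 by omega, pow_succ, hgm, one_mul]
  have h := pow_mem hst (k + 1)
  rw [hg, MulAction.mem_stabilizer_iff] at h
  simpa [hO, hqa] using h

/-- An orbit chain shows that the normalizer of a Sylow 2-subgroup is the subgroup itself. -/
theorem chain_sound (hmem : ∀ g, g ∈ K ↔ ∃ d ∈ L, Rep d g) (hrep : ∀ d ∈ L, ∃ g, Rep d g)
    (hG : G ≤ M24) (hKG : K ≤ G)
    (hsyl : ∀ g ∈ G, g ∈ Subgroup.normalizer (K : Set (Equiv.Perm GolayPt)) →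
      (∃ k, g ^ 2 ^ k = 1) → g ∈ K)
    (rig : List (ℕ × List ℕ)) :
    ∀ (prog : List Instr) (B F : List ℕ), (∀ b ∈ B, b < 24) →
      checkChain L rig prog B F = true →
      ∀ g ∈ G, g ∈ Subgroup.normalizer (K : Set (Equiv.Perm GolayPt)) → g ∈ fixer B F → g ∈ K := by
  intro prog
  induction prog with
  | nil =>
    intro B F _ h g hgG _ hgF
    obtain ⟨-, hf⟩ := mem_fixer.1 hgF
    rw [fixes_of_steps (hG hgG) rig _ h ?_]
    · exact one_mem K
    intro p hp
    have : ∀ F' : List ℕ, (∀ f ∈ F', f ∈ F) → p ∈ pts (singles F') → g p = p := by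
      intro F'
      induction F' with
      | nil => intro _ h'; simp [singles] at h'
      | cons f F' ih =>
        intro hsub h'
        simp only [singles, List.foldr_cons] at h' ih
        by_cases hc : popcount f = 1
        · simp only [hc, beq_self_eq_true, cond_true, pts_or, Finset.mem_union] at h'
          rcases h' with h' | h'
          · obtain ⟨r, hr⟩ := Finset.card_eq_one.1 ((card_pts f).trans hc)
            have hfix := hf f (hsub f List.mem_cons_self)
            rw [hr, Finset.smul_finset_singleton, Finset.singleton_inj] at hfix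
            rw [hr, Finset.mem_singleton] at h'
            subst h'
            exact hfix
          · exact ih (fun x hx => hsub x (List.mem_cons_of_mem _ hx)) h'
        · simp only [beq_iff_eq, hc, Bool.cond_eq_ite, if_false] at h'
          exact ih (fun x hx => hsub x (List.mem_cons_of_mem _ hx))
            (by simpa [Bool.cond_eq_ite] using h')
    exact this F (fun f hf' => hf') hp
  | cons i rest ih =>
    intro B F hB h g hgG hgN hgF
    set Γ := G ⊓ Subgroup.normalizer (K : Set (Equiv.Perm GolayPt)) ⊓ fixer B F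
    suffices hodd : ∀ x ∈ Γ, ∀ m, Odd m → x ^ m = 1 → x ∈ K by
      have hgΓ : g ∈ Γ := ⟨⟨hgG, hgN⟩, hgF⟩
      obtain ⟨k, m, hm2, hn⟩ :=
        Nat.exists_eq_pow_mul_and_not_dvd (orderOf_pos g).ne' 2 (by norm_num)
      have hcop : Nat.Coprime (2 ^ k) m :=
        Nat.Coprime.pow_left k ((Nat.prime_two.coprime_iff_not_dvd).2 hm2)
      have h1 : g ^ m ∈ K := by
        refine hsyl _ (pow_mem hgG m) (pow_mem hgN m) ⟨k, ?_⟩
        rw [← pow_mul, mul_comm, ← hn, pow_orderOf_eq_one]
      have h2 : g ^ 2 ^ k ∈ K := by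
        refine hodd _ (pow_mem hgΓ _) m (Nat.not_even_iff_odd.1 fun he => hm2 he.two_dvd) ?_
        rw [← pow_mul, ← hn, pow_orderOf_eq_one]
      have hb : g = (g ^ 2 ^ k) ^ (Nat.gcdA (2 ^ k) m) * (g ^ m) ^ (Nat.gcdB (2 ^ k) m) := by
        rw [← zpow_natCast g (2 ^ k), ← zpow_natCast g m, ← zpow_mul, ← zpow_mul, ← zpow_add,
          ← Nat.gcd_eq_gcd_ab, hcop, Nat.cast_one, zpow_one]
      rw [hb]
      exact mul_mem (zpow_mem h2 _) (zpow_mem h1 _)
    rintro x ⟨⟨hxG, hxN⟩, hxF⟩ m hm hxm
    obtain ⟨hxB, hxf⟩ := mem_fixer.1 hxF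
    cases i with
    | fix q =>
      simp only [checkChain, Bool.and_eq_true] at h
      refine ih B _ hB h.2 x hxG hxN (mem_fixer.2 ⟨hxB, ?_⟩)
      intro f hf
      rcases List.mem_cons.1 hf with rfl | hf
      · exact orb_fixed hmem hrep hB h.1 hxN hxF hm hxm
      · exact hxf f hf
    | descend a =>
      simp only [checkChain, Bool.and_eq_true, List.all_eq_true] at h
      obtain ⟨⟨hc, hstab⟩, hrest⟩ := h
      have ha : a < 24 := by
        simp only [certOrbit, Bool.and_eq_true, Nat.blt_eq] at hc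
        exact hc.1
      have horb := orb_fixed hmem hrep hB hc hxN hxF hm hxm
      rw [← idx_pt ha] at horb
      have hmem' : x (pt a) ∈ pts (orbm (fixB L B) (idx (pt a))) := by
        rw [← horb]
        exact Finset.smul_mem_smul_finset
          ((mem_orb hmem hrep hB _ _).2 ⟨1, one_mem _, fun b _ => rfl, rfl⟩)
      obtain ⟨s, hs, hsB, hsa⟩ := (mem_orb hmem hrep hB _ _).1 hmem'
      have hsF : s ∈ fixer B F := by
        refine mem_fixer.2 ⟨hsB, fun f hf => ?_⟩
        obtain ⟨d, hd, hr⟩ := (hmem s).1 hs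
        refine stable_sound hr (hstab d (List.mem_filter.2 ⟨hd, ?_⟩) f hf)
        refine List.all_eq_true.2 fun b hb => ?_
        rw [beq_iff_eq]
        have h := hr (pt b)
        rw [hsB b hb, idx_pt (hB b hb)] at h
        exact h.symm
      have hy : s⁻¹ * x ∈ K := by
        refine ih (a :: B) _ ?_ hrest _ (mul_mem (inv_mem (hKG hs)) hxG)
          (mul_mem (inv_mem (Subgroup.le_normalizer hs)) hxN) ?_
        · intro b hb
          rcases List.mem_cons.1 hb with rfl | hb
          · exact ha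
          · exact hB b hb
        obtain ⟨hyB, hyF⟩ := mem_fixer.1 (mul_mem (inv_mem hsF) hxF)
        have hya : (s⁻¹ * x) (pt a) = pt a := by
          rw [Equiv.Perm.mul_apply, ← hsa]
          simp
        refine mem_fixer.2 ⟨?_, ?_⟩
        · intro b hb
          rcases List.mem_cons.1 hb with rfl | hb
          · exact hya
          · exact hyB b hb
        · intro f hf
          rcases List.mem_cons.1 hf with rfl | hf
          · have hs1 : pts (1 <<< a) = {pt a} := by
              ext p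
              rw [mem_pts, Nat.one_shiftLeft, Nat.testBit_two_pow, decide_eq_true_eq,
                Finset.mem_singleton]
              exact ⟨fun e => by rw [e, pt_idx], fun e => by rw [e, idx_pt ha]⟩
            rw [hs1, Finset.smul_finset_singleton, Equiv.Perm.smul_def, hya]
          · exact hyF f hf
      simpa using mul_mem hs hy

theorem exists_foldr_mem {M : Type*} [Group M] (U : Subgroup M) (R : ℕ → M → Prop)
    (op : ℕ → ℕ → ℕ) (e : ℕ) (h1 : R e 1)
    (hm : ∀ {a b : ℕ} {x y : M}, R a x → R b y → R (op a b) (x * y)) (E : List ℕ)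
    (hE : ∀ d ∈ E, ∃ x ∈ U, R d x) :
    ∀ ws : List ℕ, ∃ x ∈ U, R (ws.foldr (fun i acc => op (E.getD i e) acc) e) x
  | [] => ⟨1, one_mem _, h1⟩
  | i :: ws => by
    obtain ⟨y, hy, hyr⟩ := exists_foldr_mem U R op e h1 hm E hE ws
    obtain ⟨x, hx, hxr⟩ : ∃ x ∈ U, R (E.getD i e) x := by
      rcases lt_or_ge i E.length with h | h
      · rw [List.getD_eq_getElem _ _ h]; exact hE _ (List.getElem_mem h)
      · rw [List.getD_eq_default _ _ h]; exact ⟨1, one_mem _, h1⟩
    exact ⟨x * y, mul_mem hx hy, hm hxr hyr⟩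

theorem fus_sound {U : Subgroup (Equiv.Perm GolayPt)} (hmem : ∀ g, g ∈ K ↔ ∃ d ∈ L, Rep d g)
    (inG : ℕ → Bool) (hinG : ∀ d, inG d = true → toPerm d ∈ G)
    (hU : ∀ x ∈ U, ∀ g ∈ G, g * x * g⁻¹ ∈ K → g * x * g⁻¹ ∈ U) (gens : List ℕ)
    (words : List (List ℕ)) :
    ∀ (steps : List (ℕ × ℕ × List ℕ)) (E : List ℕ), checkFus inG L gens words steps E = true →
      (∀ d ∈ E, ∃ x ∈ U, Rep d x) → ∀ e ∈ gens, ∀ g, Rep e g → g ∈ U := by
  have hword : ∀ (E : List ℕ), (∀ d ∈ E, ∃ x ∈ U, Rep d x) → ∀ ws, ∃ x ∈ U, Rep (word E ws) x :=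
    fun E hE ws => exists_foldr_mem U Rep comp idCode rep_one (fun hx hy => rep_comp hx hy) E hE ws
  intro steps
  induction steps with
  | nil =>
    intro E h hE e he g hg
    simp only [checkFus, Bool.and_eq_true, beq_iff_eq, List.all_eq_true] at h
    obtain ⟨hlen, hall⟩ := h
    obtain ⟨n, hn, rfl⟩ := List.getElem_of_mem he
    have hz : (gens[n], words[n]'(by omega)) ∈ gens.zip words := by
      rw [← List.getElem_zip (h := by simp; omega)]
      exact List.getElem_mem _
    obtain ⟨x, hx, hxr⟩ := hword E hE (words[n]'(by omega))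
    have := hall _ hz
    simp only at this
    rw [rep_ext (rep_canon hg) hxr this.symm]
    exact hx
  | cons st rest ih =>
    obtain ⟨g, gi, ws⟩ := st
    intro E h hE
    simp only [checkFus, Bool.and_eq_true, beq_iff_eq, List.contains_iff_mem] at h
    obtain ⟨⟨⟨⟨⟨hg, hv⟩, hvi⟩, hinv⟩, hL⟩, hrest⟩ := h
    refine ih _ hrest fun d hd => ?_
    rcases List.mem_append.1 hd with hd | hd
    · exact hE d hd
    rw [List.mem_singleton.1 hd]
    obtain ⟨x, hx, hxr⟩ := hword E hE ws
    have hr := rep_comp (rep_toPerm hv) (rep_comp hxr (rep_toPerm hvi))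
    rw [rep_inv (rep_toPerm hv) (rep_toPerm hvi) hinv, ← mul_assoc] at hr
    exact ⟨_, hU x hx _ (hinG g hg) ((hmem _).2 ⟨_, hL, hr⟩), hr⟩

end

/-- The facts certified: no proper strongly closed subgroup and a self-normalising Sylow subgroup. -/
theorem facts_of_cert {G : Subgroup (Equiv.Perm GolayPt)} (hG : G ≤ M24) (inG : ℕ → Bool)
    (hinG : ∀ d, inG d = true → toPerm d ∈ G) (c : Cert) (hc : c.check inG = true) {m : ℕ}
    (hm : Odd m) (hcard : Nat.card G = 2 ^ c.gens.length * m) (hlen : c.gens.length ≠ 0)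
    (S : Sylow 2 G) :
    (S : Subgroup G) ≠ ⊥ ∧
      (∀ T : Subgroup G, (groupFusionSystem (S : Subgroup G)).StronglyClosed T →
        T = ⊥ ∨ T = (S : Subgroup G)) ∧
      ∀ g : G, g ∈ Subgroup.normalizer ((S : Subgroup G) : Set G) → g ∈ (S : Subgroup G) := by
  simp only [Cert.check, Bool.and_eq_true, List.all_eq_true] at hc
  obtain ⟨⟨⟨⟨hpoly, hgens⟩, hchain⟩, hcent⟩, hfus⟩ := hc
  obtain ⟨hmem, hrep, hKcard⟩ := poly_sound _ hpoly
  set K := gperm c.gens
  have hvalid : ∀ (l : List (ℕ × ℕ)), checkPoly l = true → ∀ x ∈ l, validPerm x.1 = true := by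
    intro l
    induction l with
    | nil => simp
    | cons y l ih =>
      obtain ⟨e, ei⟩ := y
      intro h x hx
      simp only [checkPoly, Bool.and_eq_true] at h
      rcases List.mem_cons.1 hx with rfl | hx
      · exact h.1.1.1.1.1.2
      · exact ih h.1.1.1.1.1.1 x hx
  have hKG : K ≤ G := by
    refine (Subgroup.closure_le _).2 ?_
    rintro g ⟨x, hx, hg⟩
    rw [rep_unique hg (rep_toPerm (hvalid _ hpoly x hx))]
    exact hinG _ (hgens x hx)
  -- a Sylow subgroup of `G` with the image `K`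
  have hK0 : Nat.card (K.subgroupOf G) = 2 ^ c.gens.length := by
    rw [Nat.card_congr (Subgroup.subgroupOfEquivOfLe hKG).toEquiv, hKcard]
  have hfac : Nat.card (K.subgroupOf G) = 2 ^ (Nat.card G).factorization 2 := by
    rw [hK0, hcard, Nat.factorization_mul (by positivity) hm.pos.ne', Finsupp.add_apply,
      Nat.Prime.factorization_pow Nat.prime_two, Finsupp.single_eq_same,
      Nat.factorization_eq_zero_of_not_dvd hm.not_two_dvd_nat, add_zero]
  obtain ⟨h, hh⟩ := MulAction.exists_smul_eq G (Sylow.ofCard (K.subgroupOf G) hfac) S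
  let φ : G →* Equiv.Perm GolayPt := G.subtype.comp (MulAut.conj h⁻¹).toMonoidHom
  have hφi : Function.Injective φ := G.subtype_injective.comp (MulAut.conj h⁻¹).injective
  have hφG : ∀ x, φ x ∈ G := fun x => ((MulAut.conj h⁻¹) x).2
  have hφs : ∀ y ∈ G, ∃ x, φ x = y := fun y hy =>
    ⟨MulAut.conj h ⟨y, hy⟩, by simp [φ, mul_assoc]⟩
  have hSK : ∀ x : G, x ∈ (S : Subgroup G) ↔ φ x ∈ K := by
    intro x
    rw [← hh, Sylow.coe_subgroup_smul, Subgroup.mem_pointwise_smul_iff_inv_smul_mem,
      Sylow.coe_ofCard, Subgroup.mem_subgroupOf]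
    simp [φ, MulAut.smul_def]
  have hsyl : ∀ g ∈ G, g ∈ Subgroup.normalizer (K : Set (Equiv.Perm GolayPt)) →
      (∃ k, g ^ 2 ^ k = 1) → g ∈ K := by
    rintro g hg hgN ⟨k, hk⟩
    obtain ⟨x, rfl⟩ := hφs g hg
    have hxN : x ∈ Subgroup.normalizer ((S : Subgroup G) : Set G) := by
      refine Subgroup.mem_normalizer_iff.2 fun y => ?_
      rw [hSK, hSK, map_mul, map_mul, map_inv]
      exact Subgroup.mem_normalizer_iff.1 hgN (φ y)
    have hxP : IsPGroup 2 (Subgroup.zpowers x) := by
      rintro ⟨y, hy⟩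
      obtain ⟨n, rfl⟩ := Subgroup.mem_zpowers_iff.1 hy
      refine ⟨k, Subtype.ext ?_⟩
      have hx1 : x ^ 2 ^ k = 1 := hφi (by rw [map_pow, hk, map_one])
      rw [Subgroup.coe_pow, Subgroup.coe_one, ← zpow_natCast, ← zpow_mul, mul_comm, zpow_mul,
        zpow_natCast, hx1, one_zpow]
    have hsup : IsPGroup 2 ↥(Subgroup.zpowers x ⊔ (S : Subgroup G)) :=
      hxP.to_sup_of_normal_right' S.isPGroup' (Subgroup.zpowers_le.2 hxN)
    have heq := S.3 hsup le_sup_right
    exact (hSK x).1 (heq ▸ Subgroup.mem_sup_left (Subgroup.mem_zpowers x))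
  have hnorm : ∀ g ∈ G, g ∈ Subgroup.normalizer (K : Set (Equiv.Perm GolayPt)) → g ∈ K :=
    fun g hg hgN => chain_sound hmem hrep hG hKG hsyl c.rig c.chain [] [] (by simp) hchain g hg hgN
      (mem_fixer.2 (by simp))
  have hS1 : (S : Subgroup G) ≠ ⊥ := by
    intro hb
    have h1 := S.card_eq_multiplicity
    have h2 : Nat.card (S : Subgroup G) = 1 := by rw [hb, Subgroup.card_bot]
    rw [h2, ← hfac, hK0] at h1
    exact hlen ((Nat.pow_eq_one.1 h1.symm).resolve_left (by norm_num))
  refine ⟨hS1, ?_, ?_⟩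
  · -- strongly closed subgroups
    intro T hT
    have hconj : ∀ x ∈ T, ∀ g : G, g * x * g⁻¹ ∈ (S : Subgroup G) → g * x * g⁻¹ ∈ T := by
      intro x hx g hg
      have hle : Subgroup.zpowers x ≤ T := Subgroup.zpowers_le.2 hx
      have hcS : (S : Subgroup G).comap (MulAut.conj g).toMonoidHom ≥ Subgroup.zpowers x :=
        Subgroup.zpowers_le.2 hg
      obtain ⟨ψ, hψ, e⟩ := Fusion.isMap_group_iff.2
        ⟨hle.trans hT.1, g, fun y hy => ⟨hcS hy, rfl⟩⟩
      have := hT.2 _ hle ψ hψ ⟨x, Subgroup.mem_zpowers x⟩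
      rwa [e x (Subgroup.mem_zpowers x)] at this
    rcases eq_or_ne T ⊥ with hb | hb
    · exact .inl hb
    refine .inr (le_antisymm hT.1 fun y hy => ?_)
    set U := T.map φ
    have hUK : U ≤ K := by
      rintro _ ⟨x, hx, rfl⟩
      exact (hSK x).1 (hT.1 hx)
    have hU : ∀ x ∈ U, ∀ g ∈ G, g * x * g⁻¹ ∈ K → g * x * g⁻¹ ∈ U := by
      rintro _ ⟨x, hx, rfl⟩ g hg hgx
      obtain ⟨g', rfl⟩ := hφs g hg
      refine ⟨g' * x * g'⁻¹, hconj x hx g' ((hSK _).2 ?_), by rw [map_mul, map_mul, map_inv]⟩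
      rwa [map_mul, map_mul, map_inv]
    have hUb : U ≠ ⊥ := fun e => hb ((Subgroup.map_eq_bot_iff_of_injective _ hφi).1 e)
    -- a central element of `U`
    have hKp : IsPGroup 2 K := IsPGroup.of_card hKcard
    have hUn : (U.subgroupOf K).Normal := ⟨fun n hn g => by
      rw [Subgroup.mem_subgroupOf] at hn ⊢
      exact hU n hn g (hKG g.2) (mul_mem (mul_mem g.2 n.2) (inv_mem g.2))⟩
    have hne : U.subgroupOf K ⊓ Subgroup.center K ≠ ⊥ := PGroup.inf_center_ne_bot hKp fun e =>
      hUb (by rw [← Subgroup.map_subgroupOf_eq_of_le hUK, e, Subgroup.map_bot])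
    obtain ⟨⟨w, hw⟩, hw'⟩ := Subgroup.ne_bot_iff_exists_ne_one.1 hne
    have hw1 : w ≠ 1 := fun e => hw' (Subtype.ext e)
    obtain ⟨hwU, hwc⟩ := hw
    obtain ⟨d, hd, hdr⟩ := (hmem w).1 w.2
    have hz : Rep c.z (w : Equiv.Perm GolayPt) := by
      have h1 := List.all_eq_true.1 hcent d hd
      simp only [Bool.or_eq_true, beq_iff_eq, Bool.not_eq_true'] at h1
      rcases h1 with (h1 | h1) | h1
      · exact absurd (Subtype.ext (rep_ext hdr rep_one h1)) hw1
      · exact h1 ▸ hdr
      · exfalso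
        rw [List.all_eq_false] at h1
        obtain ⟨e, he, hne⟩ := h1
        obtain ⟨x, hx, rfl⟩ := List.mem_map.1 he
        have hxv := rep_toPerm (hvalid _ hpoly x hx)
        have hxK : toPerm x.1 ∈ K := mem_gperm_of_mem hx hxv
        have hcomm : toPerm x.1 * w = w * toPerm x.1 :=
          congrArg Subtype.val (Subgroup.mem_center_iff.1 hwc ⟨_, hxK⟩)
        have e1 := canon_eq_of_rep (rep_comp hxv hdr) (hcomm ▸ rep_comp hdr hxv)
        rw [canon_comp, canon_comp] at e1
        exact hne (beq_iff_eq.2 e1.symm)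
    have hgensU := fus_sound hmem inG hinG hU _ c.words c.fus [c.z] hfus fun d' hd' =>
      ⟨w, hwU, List.mem_singleton.1 hd' ▸ hz⟩
    have hKU : K ≤ U := by
      refine (Subgroup.closure_le _).2 ?_
      rintro g ⟨x, hx, hg⟩
      exact hgensU x.1 (List.mem_map_of_mem hx) g hg
    obtain ⟨x, hx, hxy⟩ := hKU ((hSK y).1 hy)
    exact hφi hxy ▸ hx
  · -- the Sylow subgroup is self-normalising
    intro g hg
    refine (hSK g).2 (hnorm _ (hφG _) (Subgroup.mem_normalizer_iff.2 fun y => ?_))
    constructor <;> intro hy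
    · obtain ⟨y', rfl⟩ := hφs y (hKG hy)
      rw [← map_inv, ← map_mul, ← map_mul, ← hSK]
      exact (Subgroup.mem_normalizer_iff.1 hg y').1 ((hSK y').2 hy)
    · have hyG : y ∈ G := by
        have := mul_mem (mul_mem (inv_mem (hφG g)) (hKG hy)) (hφG g)
        simpa [mul_assoc] using this
      obtain ⟨y', rfl⟩ := hφs y hyG
      rw [← map_inv, ← map_mul, ← map_mul, ← hSK] at hy
      exact (hSK y').1 ((Subgroup.mem_normalizer_iff.1 hg y').2 hy)

/-- A Sylow subgroup that is its own normaliser and has no proper strongly closed subgroup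
carries a simple fusion system. -/
theorem isSimple_of_selfNormalizing {G : Type*} [Group G] [Finite G] (S : Sylow 2 G)
    (hS1 : (S : Subgroup G) ≠ ⊥)
    (hsc : ∀ T : Subgroup G, (groupFusionSystem (S : Subgroup G)).StronglyClosed T →
      T = ⊥ ∨ T = (S : Subgroup G))
    (hN : ∀ g : G, g ∈ Subgroup.normalizer ((S : Subgroup G) : Set G) → g ∈ (S : Subgroup G)) :
    (groupFusionSystem (S : Subgroup G)).IsSimple 2 := by
  refine FusionNormal.isSimple_of_top_generated S.isPGroup' (Fusion.isSaturated_group S) hS1 hsc ?_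
  intro β hβ
  refine Subgroup.subset_closure ⟨hβ, .inl ?_⟩
  rw [Fusion.autGroup_group le_rfl, ← Fusion.range_normConj] at hβ
  obtain ⟨g, rfl⟩ := hβ
  obtain ⟨k, hk⟩ := S.isPGroup' ⟨g.1, hN g.1 g.2.2⟩
  refine ⟨k, ?_⟩
  rw [← map_pow, show g ^ 2 ^ k = 1 from Subtype.ext (congrArg Subtype.val hk :), map_one]

/-- A certificate shows that the 2-fusion system of a subgroup of `M24` is simple. -/
theorem isSimple_of_cert {G : Subgroup (Equiv.Perm GolayPt)} (hG : G ≤ M24) (inG : ℕ → Bool)
    (hinG : ∀ d, inG d = true → toPerm d ∈ G) (c : Cert) (hc : c.check inG = true) {m : ℕ}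
    (hm : Odd m) (hcard : Nat.card G = 2 ^ c.gens.length * m) (hlen : c.gens.length ≠ 0)
    (S : Sylow 2 G) : (groupFusionSystem (S : Subgroup G)).IsSimple 2 := by
  obtain ⟨h1, h2, h3⟩ := facts_of_cert hG inG hinG c hc hm hcard hlen S
  exact isSimple_of_selfNormalizing S h1 h2 h3

end Cfsg.Agent.MathieuFusion
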