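import Cfsg.Agent.Lib.Golay.Perm

/-
Permutations of the 24 points coded by numbers (five bits for each point), with composition, and
2-groups given by polycyclic generators.
Main results (namespace `Cfsg.Agent.MathieuFusion`): `Rep`, `rep_comp`, `rep_ext`, `elts`,
`poly_sound` (the subgroup generated by checked polycyclic generators consists of the listed
`2 ^ n` elements).
-/

set_option autoImplicit false

open Cfsg Cfsg.Agent.Golay

namespace Cfsg.Agent.MathieuFusion

/-- Pack `f 0, …, f (n - 1)` with five bits each. -/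
def pack (f : ℕ → ℕ) : ℕ → ℕ
  | 0 => 0
  | k + 1 => (f k <<< (5 * k)) ||| pack f k

/-- Composition of codes. -/
def comp (d e : ℕ) : ℕ := pack (fun i => fn d (fn e i)) 24

/-- The code of the identity. -/
def idCode : ℕ := pack (fun i => i) 24

/-- The canonical code with the same values. -/
def canon (d : ℕ) : ℕ := pack (fun i => fn d i) 24

theorem fn_lt (d i : ℕ) : fn d i < 2 ^ 5 := Nat.lt_succ_of_le Nat.and_le_right

theorem fn_pack {f : ℕ → ℕ} (hf : ∀ i, f i < 2 ^ 5) (i : ℕ) :
    ∀ n, fn (pack f n) i = if i < n then f i else 0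
  | 0 => by simp [pack, fn]
  | n + 1 => by
    have ih := fn_pack hf i n
    have h31 : (31 : ℕ) = 2 ^ 5 - 1 := rfl
    simp only [fn, pack, Nat.shiftRight_or_distrib, Nat.and_or_distrib_right] at ih ⊢
    rw [ih]
    rcases lt_trichotomy i n with h | rfl | h
    · have h0 : ((f n <<< (5 * n)) >>> (5 * i)) &&& 31 = 0 := by
        refine Nat.eq_of_testBit_eq fun j => ?_
        simp only [Nat.testBit_and, Nat.testBit_shiftRight, Nat.testBit_shiftLeft, h31,
          Nat.testBit_two_pow_sub_one, Nat.zero_testBit]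
        by_cases hj : j < 5
        · simp [show ¬ (5 * n ≤ 5 * i + j) by omega]
        · simp [hj]
      rw [h0, if_pos h, if_pos (by omega)]
      simp
    · have h0 : ((f i <<< (5 * i)) >>> (5 * i)) &&& 31 = f i := by
        rw [Nat.shiftLeft_shiftRight, h31, Nat.and_two_pow_sub_one_eq_mod,
          Nat.mod_eq_of_lt (hf i)]
      rw [h0, if_neg (lt_irrefl _), if_pos (by omega)]
      simp
    · have h0 : ((f n <<< (5 * n)) >>> (5 * i)) = 0 := by
        rw [Nat.shiftRight_eq_div_pow, Nat.div_eq_of_lt]
        rw [Nat.shiftLeft_eq]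
        calc f n * 2 ^ (5 * n) < 2 ^ 5 * 2 ^ (5 * n) :=
              Nat.mul_lt_mul_of_pos_right (hf n) (Nat.two_pow_pos _)
          _ ≤ 2 ^ (5 * i) := by
              rw [← pow_add]; exact Nat.pow_le_pow_right (by norm_num) (by omega)
      rw [h0, if_neg (by omega), if_neg (by omega)]
      simp

theorem fn_comp (d e : ℕ) {i : ℕ} (hi : i < 24) : fn (comp d e) i = fn d (fn e i) := by
  rw [comp, fn_pack (fun i => fn_lt d _), if_pos hi]

theorem pack_congr {f g : ℕ → ℕ} : ∀ n, (∀ i < n, f i = g i) → pack f n = pack g n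
  | 0, _ => rfl
  | n + 1, h => by
    simp only [pack]
    rw [h n (by omega), pack_congr n fun i hi => h i (by omega)]

theorem canon_pack {f : ℕ → ℕ} (hf : ∀ i, f i < 2 ^ 5) : canon (pack f 24) = pack f 24 :=
  pack_congr 24 fun i hi => by rw [fn_pack hf, if_pos hi]

theorem canon_comp (d e : ℕ) : canon (comp d e) = comp d e := canon_pack fun _ => fn_lt d _

theorem canon_idCode : canon idCode = idCode := by decide +kernel

/-- `d` codes `g`. -/
def Rep (d : ℕ) (g : Equiv.Perm GolayPt) : Prop := ∀ p, idx (g p) = fn d (idx p)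

theorem rep_toPerm {d : ℕ} (hd : validPerm d = true) : Rep d (toPerm d) := idx_toPerm hd

theorem fn_idCode : ∀ i < 24, fn idCode i = i := by decide +kernel

theorem rep_one : Rep idCode 1 := fun p => by
  rw [Equiv.Perm.one_apply, fn_idCode _ (idx_lt p)]

theorem rep_comp {d e : ℕ} {g h : Equiv.Perm GolayPt} (hg : Rep d g) (hh : Rep e h) :
    Rep (comp d e) (g * h) := fun p => by
  rw [Equiv.Perm.mul_apply, hg, hh, fn_comp _ _ (idx_lt p)]

theorem rep_unique {d : ℕ} {g h : Equiv.Perm GolayPt} (hg : Rep d g) (hh : Rep d h) : g = h :=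
  Equiv.ext fun p => idx_injective ((hg p).trans (hh p).symm)

theorem rep_ext {d e : ℕ} {g h : Equiv.Perm GolayPt} (hg : Rep d g) (hh : Rep e h) (he : d = e) :
    g = h := rep_unique hg (he ▸ hh)

theorem canon_eq_of_rep {d e : ℕ} {g : Equiv.Perm GolayPt} (hd : Rep d g) (he : Rep e g) :
    canon d = canon e :=
  pack_congr 24 fun i hi => by
    have h1 := hd (pt i)
    rw [he (pt i), idx_pt hi] at h1
    exact h1.symm

theorem fn_canon (d : ℕ) {i : ℕ} (hi : i < 24) : fn (canon d) i = fn d i := by
  rw [canon, fn_pack (fun i => fn_lt d i), if_pos hi]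

theorem rep_canon {d : ℕ} {g : Equiv.Perm GolayPt} (h : Rep d g) : Rep (canon d) g := fun p => by
  rw [fn_canon _ (idx_lt p), h p]

theorem rep_inv {d di : ℕ} {g h : Equiv.Perm GolayPt} (hg : Rep d g) (hh : Rep di h)
    (he : comp d di = idCode) : h = g⁻¹ :=
  eq_inv_of_mul_eq_one_right (rep_ext (rep_comp hg hh) rep_one he)

/-- The products of the subsets of a list, earlier entries on the left. -/
def elts : List ℕ → List ℕ
  | [] => [idCode]
  | e :: es => elts es ++ (elts es).map (comp e)

theorem canon_of_mem_elts : ∀ (l : List ℕ), ∀ d ∈ elts l, canon d = d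
  | [], d, hd => by rw [List.mem_singleton.1 hd, canon_idCode]
  | e :: es, d, hd => by
    rcases List.mem_append.1 hd with h | h
    · exact canon_of_mem_elts es d h
    · obtain ⟨x, -, rfl⟩ := List.mem_map.1 h
      exact canon_comp e x

/-- The check on polycyclic generators, each with its inverse. -/
def checkPoly : List (ℕ × ℕ) → Bool
  | [] => true
  | (e, ei) :: es =>
    checkPoly es && validPerm e && validPerm ei && (comp e ei == idCode) &&
      (elts (es.map Prod.fst)).contains (comp e e) &&
      es.all (fun x => (elts (es.map Prod.fst)).contains (comp e (comp x.1 ei))) &&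
      !(elts (es.map Prod.fst)).contains (canon e)

/-- The subgroup generated by the coded permutations. -/
def gperm (l : List (ℕ × ℕ)) : Subgroup (Equiv.Perm GolayPt) :=
  Subgroup.closure {g | ∃ x ∈ l, Rep x.1 g}

theorem mem_gperm_of_mem {l : List (ℕ × ℕ)} {x : ℕ × ℕ} (hx : x ∈ l) {g : Equiv.Perm GolayPt}
    (hg : Rep x.1 g) : g ∈ gperm l :=
  Subgroup.subset_closure ⟨x, hx, hg⟩

/-- Checked polycyclic generators generate exactly the listed elements, `2 ^ n` in number. -/
theorem poly_sound : ∀ (l : List (ℕ × ℕ)), checkPoly l = true →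
    (∀ g : Equiv.Perm GolayPt, g ∈ gperm l ↔ ∃ d ∈ elts (l.map Prod.fst), Rep d g) ∧
      (∀ d ∈ elts (l.map Prod.fst), ∃ g, Rep d g) ∧ Nat.card (gperm l) = 2 ^ l.length
  | [], _ => by
    have hb : gperm [] = ⊥ := by
      refine le_antisymm ((Subgroup.closure_le _).2 ?_) bot_le
      rintro g ⟨x, hx, -⟩
      simp at hx
    refine ⟨fun g => ?_, fun d hd => ?_, by simp [hb]⟩
    · rw [hb, Subgroup.mem_bot]
      exact ⟨fun h => ⟨idCode, List.mem_singleton_self _, h ▸ rep_one⟩,
        fun ⟨d, hd, h⟩ => rep_ext h rep_one (List.mem_singleton.1 hd)⟩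
    · exact ⟨1, List.mem_singleton.1 hd ▸ rep_one⟩
  | (e, ei) :: es, h => by
    simp only [checkPoly, Bool.and_eq_true, List.contains_iff_mem, Bool.not_eq_true',
      List.all_eq_true, beq_iff_eq] at h
    obtain ⟨⟨⟨⟨⟨⟨hes, hv⟩, hvi⟩, hinv⟩, hsq⟩, hnorm⟩, hnot⟩ := h
    obtain ⟨hmem, hrep, hcard⟩ := poly_sound es hes
    set K := gperm es
    set a := toPerm e
    set b := toPerm ei
    have ha : Rep e a := rep_toPerm hv
    have hb : Rep ei b := rep_toPerm hvi
    have hbinv : b = a⁻¹ := rep_inv ha hb hinv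
    have hanK : a ∉ K := by
      intro hm
      obtain ⟨d, hd, hdr⟩ := (hmem a).1 hm
      have : canon e ∈ elts (es.map Prod.fst) := by
        rw [canon_eq_of_rep ha hdr, canon_of_mem_elts _ d hd]; exact hd
      rw [← List.contains_iff_mem] at this
      rw [this] at hnot
      exact Bool.noConfusion hnot
    have hmk : ∀ {d : ℕ} {g : Equiv.Perm GolayPt}, d ∈ elts (es.map Prod.fst) → Rep d g → g ∈ K :=
      fun hd hg => (hmem _).2 ⟨_, hd, hg⟩
    have haa : a * a ∈ K := hmk hsq (rep_comp ha ha)
    have hconj : ∀ k ∈ K, a * k * a⁻¹ ∈ K := by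
      have hle : K ≤ K.comap (MulAut.conj a).toMonoidHom := by
        refine (Subgroup.closure_le _).2 ?_
        rintro g ⟨x, hx, hg⟩
        show a * g * a⁻¹ ∈ K
        refine hmk (hnorm x hx) ?_
        rw [mul_assoc, ← hbinv]
        exact rep_comp ha (rep_comp hg hb)
      exact fun k hk => hle hk
    have hconj' : ∀ k ∈ K, a⁻¹ * k * a ∈ K := fun k hk => by
      have h1 := hconj k hk
      have h2 : a⁻¹ * k * a = (a * a)⁻¹ * (a * k * a⁻¹) * (a * a) := by group
      rw [h2]
      exact mul_mem (mul_mem (inv_mem haa) h1) haa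
    have hmem' : ∀ g : Equiv.Perm GolayPt, g ∈ gperm ((e, ei) :: es) ↔ g ∈ K ∨ a⁻¹ * g ∈ K := by
      intro g
      refine ⟨fun hg => ?_, fun hg => ?_⟩
      · refine Subgroup.closure_induction (p := fun x _ => x ∈ K ∨ a⁻¹ * x ∈ K) ?_
          (.inl (one_mem _)) ?_ ?_ hg
        · rintro x ⟨y, hy, hx⟩
          rcases List.mem_cons.1 hy with rfl | hy
          · rw [rep_unique hx ha, inv_mul_cancel]
            exact .inr (one_mem _)
          · exact .inl (mem_gperm_of_mem hy hx)
        · rintro x y - - (hx | hx) (hy | hy)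
          · exact .inl (mul_mem hx hy)
          · refine .inr ?_
            have : a⁻¹ * (x * y) = a⁻¹ * x * a * (a⁻¹ * y) := by group
            rw [this]
            exact mul_mem (hconj' x hx) hy
          · refine .inr ?_
            rw [← mul_assoc]
            exact mul_mem hx hy
          · refine .inl ?_
            have : x * y = a * a * (a⁻¹ * (a⁻¹ * x) * a) * (a⁻¹ * y) := by group
            rw [this]
            exact mul_mem (mul_mem haa (hconj' _ hx)) hy
        · rintro x - (hx | hx)
          · exact .inl (inv_mem hx)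
          · refine .inr ?_
            have : a⁻¹ * x⁻¹ = a⁻¹ * (a⁻¹ * x)⁻¹ * a * (a * a)⁻¹ := by group
            rw [this]
            exact mul_mem (hconj' _ (inv_mem hx)) (inv_mem haa)
      · have hle : K ≤ gperm ((e, ei) :: es) :=
          Subgroup.closure_mono fun x ⟨y, hy, hx⟩ => ⟨y, List.mem_cons_of_mem _ hy, hx⟩
        have ha' : a ∈ gperm ((e, ei) :: es) := mem_gperm_of_mem List.mem_cons_self ha
        rcases hg with hg | hg
        · exact hle hg
        · simpa using mul_mem ha' (hle hg)
    refine ⟨fun g => ?_, fun d hd => ?_, ?_⟩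
    · rw [hmem']
      simp only [List.map_cons, elts, List.mem_append, List.mem_map]
      refine ⟨fun hg => ?_, fun ⟨d, hd, hg⟩ => ?_⟩
      · rcases hg with hg | hg
        · obtain ⟨d, hd, hr⟩ := (hmem g).1 hg
          exact ⟨d, .inl hd, hr⟩
        · obtain ⟨d, hd, hr⟩ := (hmem _).1 hg
          exact ⟨comp e d, .inr ⟨d, hd, rfl⟩, by simpa using rep_comp ha hr⟩
      · rcases hd with hd | ⟨x, hx, rfl⟩
        · exact .inl (hmk hd hg)
        · obtain ⟨k, hk⟩ := hrep x hx
          refine .inr ?_
          rw [rep_unique hg (rep_comp ha hk), inv_mul_cancel_left]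
          exact hmk hx hk
    · rcases List.mem_append.1 hd with hd | hd
      · exact hrep d hd
      · obtain ⟨x, hx, rfl⟩ := List.mem_map.1 hd
        obtain ⟨k, hk⟩ := hrep x hx
        exact ⟨a * k, rep_comp ha hk⟩
    · have hset : ((gperm ((e, ei) :: es) : Subgroup _) : Set (Equiv.Perm GolayPt)) =
          (K : Set (Equiv.Perm GolayPt)) ∪ (a * ·) '' (K : Set (Equiv.Perm GolayPt)) := by
        ext g
        simp only [SetLike.mem_coe, hmem', Set.mem_union, Set.mem_image]
        exact or_congr Iff.rfl
          ⟨fun hg => ⟨_, hg, by group⟩, fun ⟨k, hk, hg⟩ => by rwa [← hg, inv_mul_cancel_left]⟩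
      have hdis : Disjoint (K : Set (Equiv.Perm GolayPt))
          ((a * ·) '' (K : Set (Equiv.Perm GolayPt))) := by
        rw [Set.disjoint_left]
        rintro g hg ⟨k, hk, rfl⟩
        exact hanK (by simpa using mul_mem hg (inv_mem (SetLike.mem_coe.1 hk)))
      have hfin : (K : Set (Equiv.Perm GolayPt)).Finite := Set.toFinite _
      calc Nat.card (gperm ((e, ei) :: es))
          = ((gperm ((e, ei) :: es) : Subgroup _) : Set (Equiv.Perm GolayPt)).ncard := rfl
        _ = 2 ^ (es.length + 1) := by
            rw [hset, Set.ncard_union_eq hdis hfin (hfin.image _),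
              Set.ncard_image_of_injective _ (mul_right_injective a),
              show ((K : Set (Equiv.Perm GolayPt))).ncard = 2 ^ es.length from hcard, pow_succ]
            omega

end Cfsg.Agent.MathieuFusion
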